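import Cfsg.Agent.Mrg.Omega.FOne.Plug
import Cfsg.Agent.Mrg.Omega.FOne.NOv.Tr
import Cfsg.Agent.Mrg.Omega.FOne.NOv.TrAbs
import Cfsg.Agent.ZN.Facts
import Cfsg.Agent.Mrg.Omega.FOne.ThmR.Main

section


/-!
# (F1'), the REDUCTION (helper297 #20655 (a)-(c), referee helper270 #21082): definitions and (NO)

* `St X y θ T` : the situation; `Good X y θ B` : `B ≤ O₂(C_X(θ mod y))` is an exact atom of order at least 4;
* `WR R y θ = ⟨y, θ^R⟩`; `Fq X y U` : the elements of `X` which are trivial on `U` modulo `y`;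
* `ThA` : the statement of THEOREM A;
* `St.nor` : (NO) on `WR R y θ`.
-/

set_option autoImplicit false
set_option linter.unusedSectionVars false

namespace Cfsg.Agent.Omega.FOne.ThmA

open Subgroup Cfsg Cfsg.Agent.ZN
open Cfsg.Agent.Omega.FOne.Tvw (Base z2 addself ap_inv inv_ap)
open Cfsg.Agent.Omega.FOne.NOv
open Cfsg.Agent.ClassTwoFusion.Quad
open Cfsg.Agent.Omega.ML.MinFrame

universe u

section defs

variable {W : Type*} [AddCommGroup W] [Module (ZMod 2) W]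

/-- the elements of `X` which fix `y` and are trivial on `U` modulo `y` -/
def Fq (X : Subgroup (W ≃ₗ[ZMod 2] W)) (y : W) (U : Set W) : Subgroup (W ≃ₗ[ZMod 2] W) where
  carrier := {x | x ∈ X ∧ x y = y ∧ ∀ v ∈ U, x v = v ∨ x v = v + y}
  one_mem' := ⟨X.one_mem, rfl, fun v _ => Or.inl rfl⟩
  mul_mem' := by
    rintro a b ⟨a1, a2, a3⟩ ⟨b1, b2, b3⟩
    refine ⟨X.mul_mem a1 b1, ?_, fun v hv => ?_⟩
    · change a (b y) = y
      rw [b2, a2]
    · change a (b v) = v ∨ a (b v) = v + y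
      rcases b3 v hv with h | h <;> rw [h]
      · exact a3 v hv
      · rw [map_add, a2]
        rcases a3 v hv with h' | h' <;> rw [h']
        · right; rfl
        · left; rw [add_assoc, addself, add_zero]
  inv_mem' := by
    rintro a ⟨a1, a2, a3⟩
    have h1 : a⁻¹ y = y := by
      have := inv_ap a y
      rwa [a2] at this
    refine ⟨X.inv_mem a1, h1, fun v hv => ?_⟩
    rcases a3 v hv with h | h
    · left
      have := inv_ap a v
      rwa [h] at this
    · right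
      have h2 := inv_ap a v
      rw [h, map_add, h1] at h2
      calc a⁻¹ v = a⁻¹ v + y + y := by rw [add_assoc, addself, add_zero]
        _ = v + y := by rw [h2]

theorem mem_Fq {X : Subgroup (W ≃ₗ[ZMod 2] W)} {y : W} {U : Set W} {x : W ≃ₗ[ZMod 2] W} :
    x ∈ Fq X y U ↔ x ∈ X ∧ x y = y ∧ ∀ v ∈ U, x v = v ∨ x v = v + y := Iff.rfl

theorem Fq_le {X : Subgroup (W ≃ₗ[ZMod 2] W)} {y : W} {U : Set W} : Fq X y U ≤ X := fun _ h => h.1

/-- the preimage of `⟨λ^R⟩` -/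
def WR (R : Subgroup (W ≃ₗ[ZMod 2] W)) (y θ : W) : Submodule (ZMod 2) W :=
  Submodule.span (ZMod 2) ({y} ∪ {v | ∃ r ∈ R, r θ = v})

/-- the vectors fixed modulo `y` by `x` -/
def fm (y : W) (x : W ≃ₗ[ZMod 2] W) : Submodule (ZMod 2) W where
  carrier := {v | x v = v ∨ x v = v + y}
  zero_mem' := Or.inl (map_zero x)
  add_mem' := by
    rintro v w hv hw
    have e2 : y + y = 0 := addself y
    rcases hv with h1 | h1 <;> rcases hw with h2 | h2 <;> change _ ∨ _ <;> rw [map_add, h1, h2]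
    · exact Or.inl rfl
    · right; abel
    · right; abel
    · left
      calc v + y + (w + y) = v + w + (y + y) := by abel
        _ = v + w := by rw [e2, add_zero]
  smul_mem' := by
    intro c w hw
    rcases z2 c with rfl | rfl
    · rw [zero_smul]; exact Or.inl (map_zero x)
    · rw [one_smul]; exact hw

theorem mem_fm {y : W} {x : W ≃ₗ[ZMod 2] W} {v : W} : v ∈ fm y x ↔ x v = v ∨ x v = v + y := Iff.rfl

/-- **The situation** -/
structure St (X : Subgroup (W ≃ₗ[ZMod 2] W)) (y θ : W) (T : Subgroup (W ≃ₗ[ZMod 2] W)) : Prop where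
  known : IsKGroupWith IsKnownSimple' X
  base : Base X y
  TX : T ≤ X
  two : IsPGroup 2 T
  syl : ¬ 2 ∣ T.relIndex X
  fixT : ∀ w, (∀ t ∈ T, t w = w) → w = 0 ∨ w = y
  θ0 : θ ≠ 0
  θy : θ ≠ y
  Tθ : ∀ t ∈ T, t θ = θ ∨ t θ = θ + y
  gen : ∀ U : Submodule (ZMod 2) W, y ∈ U → (∀ x ∈ X, x θ ∈ U) → U = ⊤

/-- an exact atom of `O₂(C_X(θ mod y))` of order at least 4 -/
structure Good (X : Subgroup (W ≃ₗ[ZMod 2] W)) (y θ : W) (B : Subgroup (W ≃ₗ[ZMod 2] W)) : Prop where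
  BO : B ≤ o2 (Fq X y {θ})
  sq : ∀ b ∈ B, b * b = 1
  quadM : ∀ a ∈ B, ∀ b ∈ B, ∀ w, b (a w + w) = a w + w ∨ b (a w + w) = a w + w + y
  atom : MAtom y B
  four : 4 ≤ Nat.card B

/-- **(LA)** : all atoms are low -/
def LA (X : Subgroup (W ≃ₗ[ZMod 2] W)) (y θ : W) (T : Subgroup (W ≃ₗ[ZMod 2] W)) : Prop :=
  ∀ B, Good X y θ B → ∀ R, T ≤ R → R ≤ X → R ≠ X → B ≤ o2 R ∧ B ≤ Fq R y (WR R y θ)

end defs

/-- **THEOREM A** (the statement) -/
def ThA : Prop :=
  ∀ (W : Type u) [AddCommGroup W] [Module (ZMod 2) W] [Finite W] (X R : Subgroup (W ≃ₗ[ZMod 2] W)) (y θ : W)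
    (T B : Subgroup (W ≃ₗ[ZMod 2] W)), St X y θ T → T ≤ R → R ≤ X → Good X y θ B → B ⊓ Fq R y (WR R y θ) = ⊥ →
    WR R y θ ⊔ cms y B = ⊤ → Nat.card B * Nat.card (WR R y θ ⊓ cms y B : Submodule (ZMod 2) W) = Nat.card (WR R y θ) →
    ∀ k ∈ Fq R y (WR R y θ), ∀ l ∈ L1 B R, ∀ v ∈ WR R y θ, k (l v + v) = l v + v

section basic

theorem ri_card {G : Type*} [Group G] {K H : Subgroup G} (h : K ≤ H) : K.relIndex H * Nat.card K = Nat.card H := by
  rw [mul_comm, ← relIndex_bot_left, ← relIndex_bot_left H]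
  exact relIndex_mul_relIndex _ _ _ bot_le h

variable {W : Type*} [AddCommGroup W] [Module (ZMod 2) W] {X R T B : Subgroup (W ≃ₗ[ZMod 2] W)} {y θ : W}

theorem y_mem_WR : y ∈ WR R y θ := Submodule.subset_span (Or.inl rfl)

theorem ap_mem_WR {r : W ≃ₗ[ZMod 2] W} (hr : r ∈ R) : r θ ∈ WR R y θ := Submodule.subset_span (Or.inr ⟨r, hr, rfl⟩)

theorem θ_mem_WR : θ ∈ WR R y θ := ap_mem_WR (r := 1) R.one_mem

theorem WR_le {U : Submodule (ZMod 2) W} (h0 : y ∈ U) (h : ∀ r ∈ R, r θ ∈ U) : WR R y θ ≤ U := by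
  rw [WR, Submodule.span_le]
  rintro v (rfl | ⟨r, hr, rfl⟩)
  · exact h0
  · exact h r hr

theorem WR_inv (hy : ∀ r ∈ R, r y = y) {r : W ≃ₗ[ZMod 2] W} (hr : r ∈ R) {v : W} (hv : v ∈ WR R y θ) :
    r v ∈ WR R y θ := by
  have h1 : WR R y θ ≤ (WR R y θ).comap (r : W →ₗ[ZMod 2] W) := by
    refine WR_le ?_ fun s hs => ?_
    · change r y ∈ WR R y θ
      rw [hy r hr]; exact y_mem_WR
    · exact ap_mem_WR (r := r * s) (R.mul_mem hr hs)
  exact h1 hv

theorem y_mem_fm {x : W ≃ₗ[ZMod 2] W} (hx : x y = y) : y ∈ fm y x := Or.inl hx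

/-- the elements of `Fq X y (WR R y θ)` -/
theorem mem_Fq_WR {x : W ≃ₗ[ZMod 2] W} :
    x ∈ Fq X y (WR R y θ) ↔ x ∈ X ∧ x y = y ∧ ∀ r ∈ R, x (r θ) = r θ ∨ x (r θ) = r θ + y := by
  constructor
  · rintro ⟨h1, h2, h3⟩
    exact ⟨h1, h2, fun r hr => h3 _ (ap_mem_WR hr)⟩
  · rintro ⟨h1, h2, h3⟩
    refine ⟨h1, h2, fun v hv => ?_⟩
    have h4 : WR R y θ ≤ fm y x := WR_le (y_mem_fm h2) h3
    exact h4 hv

/-- conjugation -/
theorem conj_Fq {U : Set W} (hy : ∀ r ∈ R, r y = y) (hR : ∀ r ∈ R, ∀ v ∈ U, r v ∈ U) (hRX : R ≤ X)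
    {r x : W ≃ₗ[ZMod 2] W} (hr : r ∈ R) (hx : x ∈ Fq X y U) : r * x * r⁻¹ ∈ Fq X y U := by
  refine ⟨X.mul_mem (X.mul_mem (hRX hr) hx.1) (X.inv_mem (hRX hr)), ?_, fun v hv => ?_⟩
  · change r (x (r⁻¹ y)) = y
    rw [hy _ (R.inv_mem hr), hx.2.1, hy r hr]
  · change r (x (r⁻¹ v)) = v ∨ r (x (r⁻¹ v)) = v + y
    rcases hx.2.2 _ (hR _ (R.inv_mem hr) v hv) with h | h <;> rw [h]
    · left; exact ap_inv r v
    · right; rw [map_add, ap_inv, hy r hr]

end basic

namespace St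

variable {W : Type u} [AddCommGroup W] [Module (ZMod 2) W] {X R T B : Subgroup (W ≃ₗ[ZMod 2] W)} {y θ : W}
variable (h : St X y θ T)
include h

theorem fixy {x : W ≃ₗ[ZMod 2] W} (hx : x ∈ X) : x y = y := h.base.fix x hx

theorem T_le_stb : T ≤ Fq X y {θ} := fun t ht =>
  ⟨h.TX ht, h.fixy (h.TX ht), by rintro v rfl; exact h.Tθ t ht⟩

theorem sylR (hT : T ≤ R) (hR : R ≤ X) : ¬ 2 ∣ T.relIndex R := by
  intro h1
  refine h.syl (h1.trans ?_)
  rw [← relIndex_mul_relIndex T R X hT hR]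
  exact dvd_mul_right _ _

variable [Finite W]

theorem o2_le_T (hT : T ≤ R) (hR : R ≤ X) : o2 R ≤ T := by
  have hfin : Finite (W ≃ₗ[ZMod 2] W) := DFunLike.finite _
  exact o2_le_of_sylow hT h.two (h.sylR hT hR)

theorem o2_stb_le : o2 (Fq X y {θ}) ≤ T := h.o2_le_T h.T_le_stb Fq_le

theorem WR_top : WR X y θ = ⊤ := h.gen _ y_mem_WR fun _ hx => ap_mem_WR hx

theorem Fq_top : Fq X y ((⊤ : Submodule (ZMod 2) W) : Set W) = ⊥ := by
  rw [eq_bot_iff]
  intro x hx
  rw [mem_bot]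
  exact h.base.faith x hx.1 fun w => hx.2.2 w trivial

/-- **(NO) on `⟨λ^R⟩`** -/
theorem nor (hML : ML.Final.MLK.{u, u}) (hT : T ≤ R) (hR : R ≤ X) (hB : B ≤ o2 (Fq X y {θ})) (hB2 : ∀ b ∈ B, b * b = 1) :
    Nat.card B * Nat.card (WR R y θ ⊓ cms y B : Submodule (ZMod 2) W) ≤
      Nat.card (B ⊓ Fq R y (WR R y θ) : Subgroup (W ≃ₗ[ZMod 2] W)) * Nat.card (WR R y θ) := by
  classical
  have hfin : Finite (W ≃ₗ[ZMod 2] W) := DFunLike.finite _
  have hyR : ∀ r ∈ R, r y = y := fun r hr => h.fixy (hR hr)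
  let _ := qact R y hyR
  have hfQ : Finite (QM y) := Finite.of_surjective (qm y) (qm_surj y)
  have hsm : ∀ (r : R) (w : W), r • qm y w = qm y ((r : W ≃ₗ[ZMod 2] W) w) := fun _ _ => rfl
  have hBR : B ≤ R := (hB.trans h.o2_stb_le).trans hT
  set O := o2 (Fq X y {θ}) with hO
  have hfix : ∀ (r : R), ((r : W ≃ₗ[ZMod 2] W) ∈ Fq X y {θ}) → r • qm y θ = qm y θ := by
    intro r hr
    rw [hsm, qm_eq]
    exact hr.2.2 θ rfl
  have hstab : ∀ (r : R), r • qm y θ = qm y θ → (r : W ≃ₗ[ZMod 2] W) ∈ Fq X y {θ} := by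
    intro r hr
    rw [hsm, qm_eq] at hr
    exact ⟨hR r.2, hyR r r.2, by rintro v rfl; exact hr⟩
  have hD : ML.Final.Dat (C := R) (V := QM y) (T.subgroupOf R) (O.subgroupOf R) (B.subgroupOf R) (qm y θ) := by
    refine ⟨?_, h.two.of_equiv (subgroupOfEquivOfLe hT).symm, h.sylR hT hR, ?_, ?_, ?_, ?_, ?_, ?_⟩
    · intro v
      obtain ⟨w, rfl⟩ := qm_surj y v
      rw [← qm_add, addself, qm_zero]
    · intro t ht
      exact hfix t (h.T_le_stb ht)
    · intro q hq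
      obtain ⟨n, hn⟩ := isPGroup_o2 (Fq X y {θ}) ⟨q, hq⟩
      refine ⟨n, fun v => ?_⟩
      have h2 : (q : W ≃ₗ[ZMod 2] W) ^ 2 ^ n = 1 := congrArg Subtype.val hn
      have h1 : q ^ 2 ^ n = 1 := Subtype.ext h2
      rw [h1, one_smul]
    · intro q hq
      exact hfix q (o2_le _ hq)
    · intro g hg q hq
      have h1 := (mem_normalizer_iff.mp (le_normalizer_o2 (Fq X y {θ}) (hstab g hg)) (q : W ≃ₗ[ZMod 2] W)).mp hq
      exact ⟨g * q * g⁻¹, h1, fun _ => rfl⟩
    · intro a ha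
      exact ⟨a, hB ha, fun _ => rfl⟩
    · intro a ha v
      have h1 : a * a = 1 := Subtype.ext (hB2 _ ha)
      rw [← mul_smul, h1, one_smul]
  have hKR : IsKGroup R :=
    ML.Final.kgroup_of_surj h.known (R.subgroupOf X) (subgroupOfEquivOfLe hR).toMonoidHom
      (subgroupOfEquivOfLe hR).surjective
  have key := hML.act hKR hD
  set P := orb (⊤ : Subgroup R) (qm y θ) with hP
  -- the preimage of the orbit
  have hPW : ∀ w, qm y w ∈ P ↔ w ∈ WR R y θ := by
    intro w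
    constructor
    · intro hw
      let U : Subgroup (QM y) :=
        { carrier := {m | ∃ v ∈ WR R y θ, qm y v = m}
          one_mem' := ⟨0, zero_mem _, rfl⟩
          mul_mem' := by
            rintro _ _ ⟨v, hv, rfl⟩ ⟨v', hv', rfl⟩
            exact ⟨v + v', add_mem hv hv', rfl⟩
          inv_mem' := by
            rintro _ ⟨v, hv, rfl⟩
            exact ⟨-v, neg_mem hv, rfl⟩ }
      have h1 : P ≤ U := orb_le fun g _ => ⟨(g : W ≃ₗ[ZMod 2] W) θ, ap_mem_WR g.2, rfl⟩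
      obtain ⟨v, hv, hvw⟩ := h1 hw
      rcases qm_eq.mp hvw.symm with h2 | h2
      · rw [h2]; exact hv
      · rw [h2]; exact add_mem hv y_mem_WR
    · intro hw
      let U : Submodule (ZMod 2) W :=
        { carrier := {w | qm y w ∈ P}
          zero_mem' := by
            change qm y 0 ∈ P
            rw [qm_zero]; exact one_mem _
          add_mem' := fun {a c} ha hc => by
            change qm y (a + c) ∈ P
            rw [qm_add]; exact mul_mem ha hc
          smul_mem' := fun c w hw => by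
            change qm y (c • w) ∈ P
            rcases z2 c with rfl | rfl
            · rw [zero_smul, qm_zero]; exact one_mem _
            · rw [one_smul]; exact hw }
      have h1 : WR R y θ ≤ U := by
        refine WR_le ?_ fun r hr => ?_
        · change qm y y ∈ P
          have : qm y y = qm y 0 := qm_eq.mpr (Or.inr (by rw [zero_add]))
          rw [this, qm_zero]; exact one_mem _
        · exact smul_mem_orb_self (g := (⟨r, hr⟩ : R)) (mem_top _)
      exact h1 hw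
  have hcard : ∀ (S : Submodule (ZMod 2) W) (C : Subgroup (QM y)), (∀ w, qm y w ∈ C ↔ w ∈ S) →
      Nat.card S = 2 * Nat.card C := by
    intro S C hC
    choose s hs using qm_surj y
    let φ : Bool × C → S := fun p => ⟨s p.2.1 + (if p.1 then y else 0), by
      refine (hC _).mp ?_
      have : qm y (s p.2.1 + (if p.1 then y else 0)) = p.2.1 := by
        rw [← hs p.2.1]
        refine qm_eq.mpr ?_
        rw [hs]
        split_ifs
        · right; rfl
        · left; rw [add_zero]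
      rw [this]; exact p.2.2⟩
    have hφ : Function.Bijective φ := by
      constructor
      · rintro ⟨b, c⟩ ⟨b', c'⟩ hh
        have h1 : s c.1 + (if b then y else 0) = s c'.1 + (if b' then y else 0) := congrArg Subtype.val hh
        have h2 : c = c' := by
          apply Subtype.ext
          rw [← hs c.1, ← hs c'.1]
          refine qm_eq.mpr ?_
          have h3 : s c.1 = s c'.1 + ((if b' then y else 0) - (if b then y else 0)) := by
            rw [add_sub, ← h1]; abel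
          rw [h3]
          split_ifs
          · left; simp
          · right; simp
          · right
            rw [zero_sub]
            congr 1
            exact neg_eq_of_add_eq_zero_left (addself y)
          · left; simp
        subst h2
        have h3 := add_left_cancel h1
        cases b <;> cases b' <;> simp at h3 <;>
          first | rfl | exact absurd h3 h.base.y0 | exact absurd h3.symm h.base.y0
      · rintro ⟨w, hw⟩
        have h1 : qm y w ∈ C := (hC w).mpr hw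
        have h2 := hs (qm y w)
        rcases qm_eq.mp h2 with h3 | h3
        · exact ⟨(false, ⟨_, h1⟩), Subtype.ext (by change s (qm y w) + _ = w; rw [h3]; simp)⟩
        · refine ⟨(true, ⟨_, h1⟩), Subtype.ext ?_⟩
          change s (qm y w) + _ = w
          rw [h3]
          simp only [if_true]
          rw [add_assoc, addself, add_zero]
    rw [← Nat.card_eq_of_bijective φ hφ, Nat.card_prod]
    simp
  set C := Cfsg.Agent.ClassTwoFusion.Quad.cv (QM y) ((B.subgroupOf R : Subgroup R) : Set R) with hCdef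
  have hCm : ∀ w, qm y w ∈ C ↔ w ∈ cms y B := by
    intro w
    constructor
    · intro h1 a ha
      have h2 : (⟨a, hBR ha⟩ : R) • qm y w = qm y w := h1 _ ha
      rw [hsm, qm_eq] at h2
      exact h2
    · intro h1 a ha
      change a • qm y w = qm y w
      rw [hsm, qm_eq]
      exact h1 _ ha
  have c1 : Nat.card (WR R y θ) = 2 * Nat.card P := hcard _ _ hPW
  have c2 : Nat.card (WR R y θ ⊓ cms y B : Submodule (ZMod 2) W) = 2 * Nat.card (C ⊓ P : Subgroup (QM y)) := by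
    refine hcard _ _ fun w => ?_
    rw [Subgroup.mem_inf, Submodule.mem_inf, hPW, hCm]
    exact And.comm
  -- the kernel
  have c3 : Nat.card (fxr R P ⊓ B.subgroupOf R : Subgroup R) =
      Nat.card (B ⊓ Fq R y (WR R y θ) : Subgroup (W ≃ₗ[ZMod 2] W)) := by
    have h1 : fxr R P ⊓ B.subgroupOf R = (B ⊓ Fq R y (WR R y θ)).subgroupOf R := by
      ext x
      rw [Subgroup.mem_inf, mem_subgroupOf, mem_subgroupOf, Subgroup.mem_inf]
      constructor
      · rintro ⟨h1, h2⟩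
        refine ⟨h2, x.2, hyR _ x.2, fun v hv => ?_⟩
        have h3 := h1 (qm y v) ((hPW v).mpr hv)
        rw [hsm, qm_eq] at h3
        exact h3
      · rintro ⟨h1, h2⟩
        refine ⟨fun m hm => ?_, h1⟩
        obtain ⟨v, rfl⟩ := qm_surj y m
        rw [hsm, qm_eq]
        exact h2.2.2 v ((hPW v).mp hm)
    rw [h1]
    exact Nat.card_congr (subgroupOfEquivOfLe (inf_le_left.trans hBR)).toEquiv
  have c4 : Nat.card (B.subgroupOf R) = Nat.card B := Nat.card_congr (subgroupOfEquivOfLe hBR).toEquiv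
  have r1 : (fxr R P).relIndex (B.subgroupOf R) * Nat.card (fxr R P ⊓ B.subgroupOf R : Subgroup R) =
      Nat.card (B.subgroupOf R) := by
    rw [← inf_relIndex_right, ri_card inf_le_right]
  have r2 : C.relIndex P * Nat.card (C ⊓ P : Subgroup (QM y)) = Nat.card P := by
    rw [← inf_relIndex_right, ri_card inf_le_right]
  rw [c1, c2, ← c3, ← c4, ← r1]
  calc (fxr R P).relIndex (B.subgroupOf R) * Nat.card (fxr R P ⊓ B.subgroupOf R : Subgroup R) *
        (2 * Nat.card (C ⊓ P : Subgroup (QM y)))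
      = (fxr R P).relIndex (B.subgroupOf R) * (Nat.card (fxr R P ⊓ B.subgroupOf R : Subgroup R) *
        (2 * Nat.card (C ⊓ P : Subgroup (QM y)))) := by ring
    _ ≤ C.relIndex P * (Nat.card (fxr R P ⊓ B.subgroupOf R : Subgroup R) *
        (2 * Nat.card (C ⊓ P : Subgroup (QM y)))) := Nat.mul_le_mul_right _ key
    _ = Nat.card (fxr R P ⊓ B.subgroupOf R : Subgroup R) * (2 * (C.relIndex P * Nat.card (C ⊓ P : Subgroup (QM y)))) := by
        ring
    _ = _ := by rw [r2]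

/-- **(NO)** -/
theorem no (hML : ML.Final.MLK.{u, u}) (hB : B ≤ o2 (Fq X y {θ})) (hB2 : ∀ b ∈ B, b * b = 1) :
    Nat.card B * Nat.card (cms y B) ≤ Nat.card W := by
  have h1 := h.nor hML h.TX le_rfl hB hB2
  rw [h.WR_top, h.Fq_top, inf_bot_eq, Subgroup.card_bot, one_mul, top_inf_eq] at h1
  have h2 : Nat.card (⊤ : Submodule (ZMod 2) W) = Nat.card W := Nat.card_congr (Equiv.Set.univ W)
  rwa [h2] at h1

/-- **(U)** for `U = ⟨λ^R⟩` and an atom which moves `⟨λ^R⟩` -/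
theorem u_eq (hML : ML.Final.MLK.{u, u}) (hT : T ≤ R) (hR : R ≤ X) (g : Good X y θ B) (hn : ¬ B ≤ Fq R y (WR R y θ)) :
    B ⊓ Fq R y (WR R y θ) = ⊥ ∧ WR R y θ ⊔ cms y B = ⊤ ∧
      Nat.card B * Nat.card (WR R y θ ⊓ cms y B : Submodule (ZMod 2) W) = Nat.card (WR R y θ) := by
  have hfin : Finite (W ≃ₗ[ZMod 2] W) := DFunLike.finite _
  set U := WR R y θ with hU
  set D := B ⊓ Fq R y U with hD
  have h1 := h.nor hML hT hR g.BO g.sq
  have h2 := h.no hML (B := D) (inf_le_left.trans g.BO) fun b hb => g.sq b hb.1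
  have h3 : U ⊔ cms y B ≤ cms y D :=
    sup_le (fun v hv d hd => hd.2.2.2 v hv) fun v hv d hd => hv d hd.1
  have h4 := card_sup_inf U (cms y B)
  have h5 : Nat.card (U ⊔ cms y B : Submodule (ZMod 2) W) ≤ Nat.card (cms y D) :=
    Nat.card_le_card_of_injective _ (Submodule.inclusion_injective h3)
  have h6 : Nat.card B * Nat.card (cms y B) = Nat.card W := g.atom.ex
  have p1 : 0 < Nat.card B := Nat.card_pos
  have p2 : 0 < Nat.card U := Nat.card_pos
  have p3 : 0 < Nat.card (U ⊓ cms y B : Submodule (ZMod 2) W) := Nat.card_pos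
  have p4 : 0 < Nat.card D := Nat.card_pos
  have p5 : 0 < Nat.card (cms y D) := Nat.card_pos
  have p6 : 0 < Nat.card W := Nat.card_pos
  rw [← hU, ← hD] at h1
  -- `|D| |C(D)| = |W|`
  have e1 : Nat.card W * Nat.card U ≤ Nat.card D * Nat.card (cms y D) * Nat.card U := by
    calc Nat.card W * Nat.card U = Nat.card B * (Nat.card U * Nat.card (cms y B)) := by rw [← h6]; ring
      _ = Nat.card B * (Nat.card (U ⊔ cms y B : Submodule (ZMod 2) W) *
          Nat.card (U ⊓ cms y B : Submodule (ZMod 2) W)) := by rw [h4]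
      _ = Nat.card (U ⊔ cms y B : Submodule (ZMod 2) W) *
          (Nat.card B * Nat.card (U ⊓ cms y B : Submodule (ZMod 2) W)) := by ring
      _ ≤ Nat.card (cms y D) * (Nat.card D * Nat.card U) := Nat.mul_le_mul h5 h1
      _ = Nat.card D * Nat.card (cms y D) * Nat.card U := by ring
  have e2 : Nat.card D * Nat.card (cms y D) = Nat.card W :=
    le_antisymm h2 (Nat.le_of_mul_le_mul_right e1 p2)
  have e3 : D = ⊥ := by
    by_contra hne
    have h7 := g.atom.min D inf_le_left hne e2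
    exact hn (by rw [← h7]; exact inf_le_right)
  have e4 : Nat.card D = 1 := by rw [e3]; exact Subgroup.card_bot
  have e5 : Nat.card (cms y D) = Nat.card W := by rw [e4, one_mul] at e2; exact e2
  rw [e4, one_mul] at h1
  have e6 : Nat.card W * Nat.card (U ⊓ cms y B : Submodule (ZMod 2) W) * Nat.card B ≤
      Nat.card (U ⊔ cms y B : Submodule (ZMod 2) W) * Nat.card (U ⊓ cms y B : Submodule (ZMod 2) W) * Nat.card B := by
    rw [h4]
    calc Nat.card W * Nat.card (U ⊓ cms y B : Submodule (ZMod 2) W) * Nat.card B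
        = Nat.card W * (Nat.card B * Nat.card (U ⊓ cms y B : Submodule (ZMod 2) W)) := by ring
      _ ≤ Nat.card W * Nat.card U := Nat.mul_le_mul_left _ h1
      _ = _ := by rw [← h6]; ring
  have e7 : Nat.card W ≤ Nat.card (U ⊔ cms y B : Submodule (ZMod 2) W) :=
    Nat.le_of_mul_le_mul_right (Nat.le_of_mul_le_mul_right e6 p1) p3
  have e8 : Nat.card (U ⊔ cms y B : Submodule (ZMod 2) W) = Nat.card W :=
    le_antisymm (Nat.card_le_card_of_injective _ (Submodule.injective_subtype _)) e7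
  refine ⟨e3, ?_, ?_⟩
  · have h8 : Nat.card (⊤ : Submodule (ZMod 2) W) = Nat.card W := Nat.card_congr (Equiv.Set.univ W)
    exact eq_of_le_card le_top (by rw [h8, e8])
  · refine Nat.eq_of_mul_eq_mul_right (Nat.card_pos (α := cms y B)) ?_
    rw [← h4, e8, ← h6]
    ring

end St

end Cfsg.Agent.Omega.FOne.ThmA

end

section


/-!
# `ThA` (helper396's literal, RedDef.lean) from `ThmR.Dat.main`
-/

set_option autoImplicit false
set_option linter.unusedSectionVars false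

namespace Cfsg.Agent.Omega.FOne.ThmR

open Subgroup Cfsg Cfsg.Agent.ZN
open Cfsg.Agent.Omega.FOne.Tvw (Base z2 addself ap_inv inv_ap)
open Cfsg.Agent.Omega.FOne.NOv (cms MAtom MEx)
open Cfsg.Agent.Omega.FOne.ThmA
open Cfsg.Agent.ClassTwoFusion.Quad

universe u

/-- `{0, y}` -/
def Ry {W : Type*} [AddCommGroup W] [Module (ZMod 2) W] (y : W) : AddSubgroup W where
  carrier := {w | w = 0 ∨ w = y}
  zero_mem' := Or.inl rfl
  add_mem' := by
    rintro a b (rfl | rfl) (rfl | rfl)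
    · left; rw [add_zero]
    · right; rw [zero_add]
    · right; rw [add_zero]
    · left; exact addself _
  neg_mem' := by
    rintro a (rfl | rfl)
    · left; rw [neg_zero]
    · right; exact neg_eq_of_add_eq_zero_left (addself _)

section

variable {W : Type*} [AddCommGroup W] [Module (ZMod 2) W] {X : Subgroup (W ≃ₗ[ZMod 2] W)} {y : W}

theorem mem_Ry {w : W} : w ∈ Ry y ↔ w = 0 ∨ w = y := Iff.rfl

theorem add_mem_Ry {a b : W} : a + b ∈ Ry y ↔ a = b ∨ a = b + y := by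
  rw [mem_Ry]
  constructor
  · rintro (h | h)
    · exact Or.inl (eq_of_add_eq_zero addself h)
    · right
      calc a = a + b + b := by rw [add_assoc, addself, add_zero]
        _ = b + y := by rw [h, add_comm]
  · rintro (rfl | rfl)
    · exact Or.inl (addself _)
    · right
      calc b + y + b = (b + b) + y := by abel
        _ = y := by rw [addself, zero_add]

theorem n_def (x : X) (w : W) : n x w = (x : W ≃ₗ[ZMod 2] W) w + w := rfl

theorem n_mem_Ry {x : X} {w : W} :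
    n x w ∈ Ry y ↔ (x : W ≃ₗ[ZMod 2] W) w = w ∨ (x : W ≃ₗ[ZMod 2] W) w = w + y := add_mem_Ry

/-- `cm` and `cms` -/
theorem mem_cm_iff {E : Subgroup X} {B : Subgroup (W ≃ₗ[ZMod 2] W)}
    (hEB : ∀ g : W ≃ₗ[ZMod 2] W, g ∈ B ↔ ∃ e ∈ E, (e : W ≃ₗ[ZMod 2] W) = g) {w : W} :
    w ∈ cm (Ry y) E ↔ w ∈ cms y B := by
  constructor
  · intro hw g hg
    obtain ⟨e, he, rfl⟩ := (hEB g).1 hg
    exact n_mem_Ry.1 (hw e he)
  · intro hw e he
    exact n_mem_Ry.2 (hw _ ((hEB _).2 ⟨e, he, rfl⟩))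

theorem card_cm [Finite W] {E : Subgroup X} {B : Subgroup (W ≃ₗ[ZMod 2] W)}
    (hEB : ∀ g : W ≃ₗ[ZMod 2] W, g ∈ B ↔ ∃ e ∈ E, (e : W ≃ₗ[ZMod 2] W) = g) :
    Nat.card (cms y B) * (cm (Ry y) E).index = Nat.card W := by
  have h1 : Nat.card (cms y B) = Nat.card (cm (Ry y) E) :=
    Nat.card_congr (Equiv.subtypeEquivRight fun w => (mem_cm_iff hEB).symm)
  rw [h1]
  exact AddSubgroup.card_mul_index _

end

/-- **THEOREM A** -/
theorem thA (hML : ML.Final.MLK.{u, u}) : ThA.{u} := by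
  intro W _ _ _ X R y θ T B h hT hR g h0 hcov hex
  have hfin : Finite (W ≃ₗ[ZMod 2] W) := DFunLike.finite _
  have hBT : B ≤ T := g.BO.trans h.o2_stb_le
  have hBR : B ≤ R := hBT.trans hT
  have hBX : B ≤ X := hBR.trans hR
  set O := o2 (Fq X y {θ}) with hO
  have hOX : O ≤ X := (o2_le _).trans Fq_le
  have hsub : ∀ {E : Subgroup (W ≃ₗ[ZMod 2] W)}, E ≤ X →
      ∀ a : W ≃ₗ[ZMod 2] W, a ∈ E ↔ ∃ e ∈ E.subgroupOf X, (e : W ≃ₗ[ZMod 2] W) = a := by
    intro E hE a
    constructor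
    · intro ha; exact ⟨⟨a, hE ha⟩, ha, rfl⟩
    · rintro ⟨e, he, rfl⟩; exact he
  have hmap : ∀ (E : Subgroup X) (a : W ≃ₗ[ZMod 2] W),
      a ∈ E.map X.subtype ↔ ∃ e ∈ E, (e : W ≃ₗ[ZMod 2] W) = a := fun E a => Iff.rfl
  have hcmap : ∀ E : Subgroup X, Nat.card (E.map X.subtype) = Nat.card E := fun E =>
    (Nat.card_congr (E.equivMapOfInjective X.subtype X.subtype_injective).toEquiv).symm
  have hyX : ∀ x ∈ X, x y = y := fun x hx => h.fixy hx
  have hD : Dat (R.subgroupOf X) (T.subgroupOf X) (O.subgroupOf X) (B.subgroupOf X) (Ry y)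
      (WR R y θ).toAddSubgroup θ := by
    refine ⟨addself, ?_, ?_, ?_, ?_, ?_, ?_, ?_, ?_, ?_, ?_, ?_, ?_, ?_, ?_, ?_, ?_, ?_, ?_, ?_⟩
    · -- fixR
      rintro x r (rfl | rfl)
      · exact smul_zero x
      · exact hyX x x.2
    · -- faith
      intro x hx
      exact Subtype.ext (h.base.faith x x.2 fun w => n_mem_Ry.1 (hx w))
    · exact fun t ht => hT ht
    · exact h.two.of_equiv (subgroupOfEquivOfLe (hT.trans hR)).symm
    · rw [relIndex_subgroupOf hR]; exact h.sylR hT hR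
    · exact fun b hb => g.BO hb
    · exact fun b hb => hBR hb
    · exact fun b hb => Subtype.ext (g.sq _ hb)
    · -- quad
      intro b hb c hc w
      exact n_mem_Ry.2 (g.quadM _ hb _ hc w)
    · -- no
      intro E hE hE2
      have hEO : E.map X.subtype ≤ O := by
        rintro _ ⟨e, he, rfl⟩; exact hE he
      have h1 := h.no hML (B := E.map X.subtype) hEO (by
        rintro _ ⟨e, he, rfl⟩; exact congrArg Subtype.val (hE2 e he))
      rw [hcmap, ← card_cm (hmap E), mul_comm] at h1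
      exact Nat.le_of_mul_le_mul_left h1 Nat.card_pos
    · -- ex
      have h1 : Nat.card B * Nat.card (cms y B) = Nat.card W := g.atom.ex
      rw [← card_cm (hsub hBX), mul_comm] at h1
      rw [← Nat.eq_of_mul_eq_mul_left Nat.card_pos h1]
      exact Nat.card_congr (subgroupOfEquivOfLe hBX).toEquiv
    · -- min
      intro E hE hE1 hEc
      have hEB : E.map X.subtype ≤ B := by
        rintro _ ⟨e, he, rfl⟩; exact hE he
      have h1 : E.map X.subtype ≠ ⊥ := fun h2 => hE1 ((map_eq_bot_iff_of_injective E X.subtype_injective).1 h2)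
      have h2 : MEx y (E.map X.subtype) := by
        have h3 := card_cm (y := y) (hmap E)
        rw [← hEc, mul_comm, ← hcmap E] at h3
        exact h3
      have h3 := g.atom.min _ hEB h1 h2
      ext x
      constructor
      · intro hx; exact hE hx
      · intro hx
        have h4 : (x : W ≃ₗ[ZMod 2] W) ∈ E.map X.subtype := by rw [h3]; exact hx
        obtain ⟨e, he, h5⟩ := h4
        rwa [← Subtype.ext h5]
    · -- RV
      rintro r (rfl | rfl)
      · exact (WR R y θ).toAddSubgroup.zero_mem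
      · exact y_mem_WR
    · exact fun x hx v hv => WR_inv (fun r hr => hyX r (hR hr)) hx hv
    · -- gen
      intro U hRU hU v hv
      have h1 : WR R y θ ≤ AddSubgroup.toZModSubmodule 2 U :=
        WR_le (hRU (Or.inr rfl)) fun r hr => hU ⟨r, hR hr⟩ hr
      exact h1 hv
    · exact θ_mem_WR
    · exact fun t ht => n_mem_Ry.2 (h.Tθ _ ht)
    · -- nO
      intro x hx o ho
      have h1 : (x : W ≃ₗ[ZMod 2] W) ∈ Fq X y {θ} := ⟨x.2, hyX x x.2, by rintro v rfl; exact n_mem_Ry.1 hx⟩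
      exact (mem_normalizer_iff.mp (le_normalizer_o2 (Fq X y {θ}) h1) (o : W ≃ₗ[ZMod 2] W)).mp ho
    · -- cover
      intro w
      have h1 : w ∈ WR R y θ ⊔ cms y B := hcov ▸ Submodule.mem_top
      obtain ⟨v, hv, m, hm, rfl⟩ := Submodule.mem_sup.1 h1
      refine ⟨v, hv, ?_⟩
      have h2 : v + m + v = m := by
        calc v + m + v = m + (v + v) := by abel
          _ = m := by rw [addself, add_zero]
      rw [h2]
      exact (mem_cm_iff (hsub hBX)).2 hm
  have h4 : 4 ≤ Nat.card (B.subgroupOf X) := by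
    rw [Nat.card_congr (subgroupOfEquivOfLe hBX).toEquiv]; exact g.four
  have key := hD.main h4
  intro k hk l hl v hv
  have hlX : l ∈ X := (L1_le hBR |>.trans hR) hl
  have h5 : (⟨l, hlX⟩ : X) ∈ Subgroup.closure
      {z : X | ∃ x ∈ R.subgroupOf X, ∃ b ∈ B.subgroupOf X, z = x * b * x⁻¹} := by
    have h6 : L1 B R ≤ (Subgroup.closure
        {z : X | ∃ x ∈ R.subgroupOf X, ∃ b ∈ B.subgroupOf X, z = x * b * x⁻¹}).map X.subtype := by
      rw [L1, closure_le]
      rintro _ ⟨r, hr, b, hb, rfl⟩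
      refine ⟨⟨r, hR hr⟩ * ⟨b, hBX hb⟩ * ⟨r, hR hr⟩⁻¹, subset_closure ⟨⟨r, hR hr⟩, hr, ⟨b, hBX hb⟩, hb, rfl⟩, rfl⟩
    obtain ⟨e, he, h7⟩ := h6 hl
    have h8 : (⟨l, hlX⟩ : X) = e := Subtype.ext h7.symm
    rw [h8]; exact he
  have h9 := key _ h5 ⟨k, hR hk.1⟩ hk.1 (fun v hv => n_mem_Ry.2 (hk.2.2 v hv)) v hv
  exact eq_of_add_eq_zero addself h9

end Cfsg.Agent.Omega.FOne.ThmR

end

section


/-!
# (F1'), the REDUCTION (helper297 #20655 (a), (b)): `R = ⟨B^R⟩ T` and the vector `θ_n`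
-/

set_option autoImplicit false
set_option linter.unusedSectionVars false

namespace Cfsg.Agent.Omega.FOne.ThmA

open Subgroup Cfsg Cfsg.Agent.ZN
open Cfsg.Agent.Omega.FOne.Tvw (Base z2 addself ap_inv inv_ap)
open Cfsg.Agent.Omega.FOne.NOv

universe u

theorem L1_norm {G : Type*} [Group G] {B L : Subgroup G} : L ≤ normalizer (L1 B L : Set G) := by
  intro l hl
  rw [mem_normalizer_iff]
  intro g
  constructor
  · exact fun hg => L1_conj hl hg
  · intro hg
    have h1 := L1_conj (L.inv_mem hl) hg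
    have h2 : l⁻¹ * (l * g * l⁻¹) * l⁻¹⁻¹ = g := by group
    rwa [h2] at h1

/-- `O₂(L) ≤ O₂(R)` for `L` normalised by `R` -/
theorem o2_mono {G : Type*} [Group G] {L R : Subgroup G} (h1 : L ≤ R) (h2 : R ≤ normalizer (L : Set G)) : o2 L ≤ o2 R :=
  le_o2 ((o2_le L).trans h1) (isPGroup_o2 L) (h2.trans (normalizer_le_normalizer_o2 L))

namespace St

variable {W : Type u} [AddCommGroup W] [Module (ZMod 2) W] {X R T B : Subgroup (W ≃ₗ[ZMod 2] W)} {y θ : W}
variable (h : St X y θ T)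
include h

/-- `K_R` is normal in `R` -/
theorem ker_conj (hR : R ≤ X) {r x : W ≃ₗ[ZMod 2] W} (hr : r ∈ R) (hx : x ∈ Fq R y (WR R y θ)) :
    r * x * r⁻¹ ∈ Fq R y (WR R y θ) :=
  conj_Fq (fun r hr => h.fixy (hR hr)) (fun r hr v hv => WR_inv (fun r hr => h.fixy (hR hr)) hr hv) le_rfl hr hx

theorem ker_norm (hR : R ≤ X) : R ≤ normalizer (Fq R y (WR R y θ) : Set (W ≃ₗ[ZMod 2] W)) := by
  intro r hr
  rw [mem_normalizer_iff]
  intro x
  constructor
  · exact fun hx => h.ker_conj hR hr hx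
  · intro hx
    have h1 := h.ker_conj hR (R.inv_mem hr) hx
    have h2 : r⁻¹ * (r * x * r⁻¹) * r⁻¹⁻¹ = x := by group
    rwa [h2] at h1

variable [Finite W]

/-- `O₂(R)` is trivial on `⟨λ^R⟩` -/
theorem o2_triv (hT : T ≤ R) (hR : R ≤ X) : o2 R ≤ Fq R y (WR R y θ) := by
  intro x hx
  rw [mem_Fq_WR]
  refine ⟨o2_le _ hx, h.fixy (hR (o2_le _ hx)), fun r hr => ?_⟩
  have h1 : r⁻¹ * x * r ∈ o2 R := by
    have h2 := (mem_normalizer_iff.mp (le_normalizer_o2 R (R.inv_mem hr)) x).mp hx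
    rwa [inv_inv] at h2
  have h2 := h.Tθ _ (h.o2_le_T hT hR h1)
  have h3 : x (r θ) = r ((r⁻¹ * x * r) θ) := by
    change x (r θ) = r (r⁻¹ (x (r θ)))
    rw [ap_inv]
  rw [h3]
  rcases h2 with h2 | h2 <;> rw [h2]
  · left; rfl
  · right; rw [map_add, h.fixy (hR hr)]

/-- an atom which is trivial on `⟨λ^R⟩` is low in `R` -/
theorem low_of (hT : T ≤ R) (hR : R ≤ X) (g : Good X y θ B) (hB : B ≤ Fq R y (WR R y θ)) : B ≤ o2 R := by
  set K := Fq R y (WR R y θ) with hK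
  have hKS : K ≤ Fq X y {θ} := fun x hx =>
    ⟨hR hx.1, hx.2.1, by rintro v rfl; exact hx.2.2 v θ_mem_WR⟩
  have h1 : o2 (Fq X y {θ}) ⊓ K ≤ o2 K := by
    refine le_o2 inf_le_right ((isPGroup_o2 _).to_le inf_le_left) ?_
    intro k hk
    rw [mem_normalizer_iff]
    intro x
    have h2 := mem_normalizer_iff.mp (le_normalizer_o2 (Fq X y {θ}) (hKS hk)) x
    have h3 := mem_normalizer_iff.mp (le_normalizer hk) x
    exact and_congr h2 h3
  exact ((le_inf g.BO hB).trans h1).trans (o2_mono Fq_le (h.ker_norm hR))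

/-- **(a)** -/
theorem step_a (hT : T ≤ R) (hR : R ≤ X) (g : Good X y θ B) (hn : ¬ B ≤ Fq R y (WR R y θ))
    (hmin : ∀ R', T ≤ R' → R' ≤ R → R' ≠ R → B ≤ Fq R' y (WR R' y θ)) : L1 B R ⊔ T = R := by
  have hBR : B ≤ R := (g.BO.trans h.o2_stb_le).trans hT
  set Ls := L1 B R with hLs
  have hLR : Ls ≤ R := L1_le hBR
  by_contra hne
  have hB1 := hmin (Ls ⊔ T) le_sup_right (sup_le hLR hT) hne
  have hBL : B ≤ Ls := B_le_L1
  set L2 := L1 B Ls with hL2
  have hL2L : L2 ≤ Ls := L1_le hBL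
  have hL2S : L2 ≤ Fq X y {θ} := by
    rw [hL2, L1, closure_le]
    rintro _ ⟨l, hl, b, hb, rfl⟩
    have hlX := hR (hLR hl)
    have hbX := hR (hBR hb)
    refine ⟨X.mul_mem (X.mul_mem hlX hbX) (X.inv_mem hlX), h.fixy (X.mul_mem (X.mul_mem hlX hbX) (X.inv_mem hlX)), ?_⟩
    rintro v rfl
    change l (b (l⁻¹ v)) = v ∨ l (b (l⁻¹ v)) = v + y
    have h2 := (hB1 hb).2.2 (l⁻¹ v) (ap_mem_WR (le_sup_left (a := Ls) (b := T) (Ls.inv_mem hl)))
    rcases h2 with h2 | h2 <;> rw [h2]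
    · left; exact ap_inv l v
    · right; rw [map_add, ap_inv, h.fixy hlX]
  have h1 : o2 (Fq X y {θ}) ⊓ L2 ≤ o2 L2 := by
    refine le_o2 inf_le_right ((isPGroup_o2 _).to_le inf_le_left) ?_
    intro k hk
    rw [mem_normalizer_iff]
    intro x
    have h2 := mem_normalizer_iff.mp (le_normalizer_o2 (Fq X y {θ}) (hL2S hk)) x
    have h3 := mem_normalizer_iff.mp (le_normalizer hk) x
    exact and_congr h2 h3
  have h2 : B ≤ o2 R :=
    (((le_inf g.BO B_le_L1).trans h1).trans (o2_mono hL2L L1_norm)).trans (o2_mono hLR L1_norm)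
  exact hn (h2.trans (h.o2_triv hT hR))

/-- **(b)** -/
theorem step_b (hT : T ≤ R) (hR : R ≤ X) (hBR : B ≤ R) (hg : L1 B R ⊔ T = R) :
    ∃ θn ∈ WR R y θ, (∀ r ∈ R, r (θ + θn) = θ + θn ∨ r (θ + θn) = θ + θn + y) ∧
      ∀ U : Submodule (ZMod 2) W, y ∈ U → (∀ l ∈ L1 B R, ∀ v ∈ WR R y θ, l v + v ∈ U) → θn ∈ U := by
  classical
  set Ls := L1 B R with hLs
  have hLR : Ls ≤ R := L1_le hBR
  -- the action on `M = W / y`
  let ρ : R →* Module.End (ZMod 2) (W ⧸ Sy y) := (rq h.base).comp (inclusion hR)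
  have hρ : ∀ (r : R) (w : W), ρ r ((Sy y).mkQ w) = (Sy y).mkQ ((r : W ≃ₗ[ZMod 2] W) w) := fun _ _ => rfl
  let _ : MulAction R (W ⧸ Sy y) := MulAction.compHom _ ρ
  have hsm : ∀ (r : R) (m : W ⧸ Sy y), r • m = ρ r m := fun _ _ => rfl
  have hfM : Finite (W ⧸ Sy y) := Finite.of_surjective _ (Sy y).mkQ_surjective
  set lam := (Sy y).mkQ θ with hlam
  -- the orbit
  have hfo : (MulAction.orbit R lam).Finite := Set.toFinite _
  set O := hfo.toFinset with hO
  have hmO : ∀ m, m ∈ O ↔ ∃ r : R, (Sy y).mkQ ((r : W ≃ₗ[ZMod 2] W) θ) = m := by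
    intro m
    rw [hO, Set.Finite.mem_toFinset]
    exact Iff.rfl
  have hodd : Odd O.card := by
    have h1 : O.card = (MulAction.stabilizer R lam).index := by
      rw [MulAction.index_stabilizer, Set.ncard_eq_toFinset_card _ hfo]
    have h2 : T.subgroupOf R ≤ MulAction.stabilizer R lam := by
      intro t ht
      rw [MulAction.mem_stabilizer_iff, hsm, hρ, hlam, mk_eq]
      exact h.Tθ _ ht
    rw [h1, ← Nat.not_even_iff_odd, even_iff_two_dvd]
    intro h3
    exact h.sylR hT hR (h3.trans (index_dvd_of_le h2))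
  set s := ∑ m ∈ O, m with hs
  have hinv : ∀ r : R, ρ r s = s := by
    intro r
    rw [hs, map_sum]
    refine Finset.sum_nbij' (fun m => ρ r m) (fun m => ρ r⁻¹ m) ?_ ?_ ?_ ?_ ?_
    · intro m hm
      obtain ⟨k, rfl⟩ := (hmO m).mp hm
      exact (hmO _).mpr ⟨r * k, rfl⟩
    · intro m hm
      obtain ⟨k, rfl⟩ := (hmO m).mp hm
      exact (hmO _).mpr ⟨r⁻¹ * k, rfl⟩
    · intro m _
      change (ρ r⁻¹ * ρ r) m = m
      rw [← map_mul, inv_mul_cancel, map_one]; rfl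
    · intro m _
      change (ρ r * ρ r⁻¹) m = m
      rw [← map_mul, mul_inv_cancel, map_one]; rfl
    · intro m _; rfl
  have hsum : lam + s = ∑ m ∈ O, (lam + m) := by
    rw [Finset.sum_add_distrib, Finset.sum_const]
    congr 1
    obtain ⟨k, hk⟩ := hodd
    rw [hk, add_smul, mul_comm, mul_smul, one_smul, two_smul, addself, smul_zero, zero_add]
  -- `R`-orbit = `L`-orbit
  have horb : ∀ r ∈ R, ∃ l ∈ Ls, (Sy y).mkQ (r θ) = (Sy y).mkQ (l θ) := by
    have hyR : ∀ r ∈ R, r y = y := fun r hr => h.fixy (hR hr)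
    let P : (W ≃ₗ[ZMod 2] W) → Prop := fun r => ∀ l ∈ Ls, ∃ l' ∈ Ls, (Sy y).mkQ (r (l θ)) = (Sy y).mkQ (l' θ)
    have hPL : ∀ r ∈ Ls, P r := fun r hr l hl => ⟨r * l, mul_mem hr hl, rfl⟩
    have hPT : ∀ t ∈ T, P t := by
      intro t ht l hl
      refine ⟨t * l * t⁻¹, L1_conj (hT ht) hl, ?_⟩
      change (Sy y).mkQ (t (l θ)) = (Sy y).mkQ (t (l (t⁻¹ θ)))
      rw [mk_eq]
      rcases h.Tθ _ (T.inv_mem ht) with h1 | h1 <;> rw [h1]
      · left; rfl
      · right
        rw [map_add, map_add, hyR _ (hLR hl), hyR _ (hT ht), add_assoc, addself, add_zero]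
    have key : ∀ r ∈ Ls ⊔ T, (P r ∧ P r⁻¹) ∧ r ∈ R := by
      intro r hr
      rw [sup_eq_closure] at hr
      induction hr using closure_induction with
      | mem x hx =>
        rcases hx with hx | hx
        · exact ⟨⟨hPL x hx, hPL _ (Ls.inv_mem hx)⟩, hLR hx⟩
        · exact ⟨⟨hPT x hx, hPT _ (T.inv_mem hx)⟩, hT hx⟩
      | one => exact ⟨⟨hPL 1 Ls.one_mem, by rw [inv_one]; exact hPL 1 Ls.one_mem⟩, R.one_mem⟩
      | mul a b _ _ ha hb =>
        have hmul : ∀ a b : W ≃ₗ[ZMod 2] W, a ∈ R → P a → P b → P (a * b) := by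
          intro a b haR pa pb l hl
          obtain ⟨l1, hl1, e1⟩ := pb l hl
          obtain ⟨l2, hl2, e2⟩ := pa l1 hl1
          refine ⟨l2, hl2, ?_⟩
          rw [← e2]
          change (Sy y).mkQ (a (b (l θ))) = _
          rw [mk_eq] at e1 ⊢
          rcases e1 with e1 | e1 <;> rw [e1]
          · left; rfl
          · right; rw [map_add, hyR a haR]
        refine ⟨⟨hmul a b ha.2 ha.1.1 hb.1.1, ?_⟩, R.mul_mem ha.2 hb.2⟩
        rw [mul_inv_rev]
        exact hmul _ _ (R.inv_mem hb.2) hb.1.2 ha.1.2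
      | inv a _ ha => exact ⟨⟨ha.1.2, by rw [inv_inv]; exact ha.1.1⟩, R.inv_mem ha.2⟩
    intro r hr
    rw [← hg] at hr
    obtain ⟨l', hl', e⟩ := (key r hr).1.1 1 Ls.one_mem
    exact ⟨l', hl', e⟩
  -- the lift
  obtain ⟨θn, hθn⟩ := (Sy y).mkQ_surjective (lam + s)
  have hs' : (Sy y).mkQ (θ + θn) = s := by
    rw [map_add, hθn, ← add_assoc, ← hlam, addself, zero_add]
  have hlast : ∀ U : Submodule (ZMod 2) W, y ∈ U → (∀ l ∈ Ls, ∀ v ∈ WR R y θ, l v + v ∈ U) → θn ∈ U := by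
    intro U hyU hU
    have h1 : (Sy y).mkQ θn ∈ U.map (Sy y).mkQ := by
      rw [hθn, hsum]
      refine Submodule.sum_mem _ fun m hm => ?_
      obtain ⟨r, rfl⟩ := (hmO m).mp hm
      obtain ⟨l, hl, e⟩ := horb r r.2
      refine ⟨l θ + θ, hU l hl θ θ_mem_WR, ?_⟩
      rw [map_add, e, add_comm]
    obtain ⟨u, hu, e⟩ := h1
    rcases mk_eq.mp e.symm with h2 | h2
    · rw [h2]; exact hu
    · rw [h2]; exact add_mem hu hyU
  refine ⟨θn, hlast _ y_mem_WR fun l hl v hv => ?_, fun r hr => ?_, hlast⟩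
  · exact add_mem (WR_inv (fun r hr => h.fixy (hR hr)) (hLR hl) hv) hv
  · rw [← mk_eq, hs']
    have h1 := hinv ⟨r, hr⟩
    rw [← hs', hρ] at h1
    rw [← hs']
    exact h1

end St

end Cfsg.Agent.Omega.FOne.ThmA

end

section


/-!
# (F1'), the REDUCTION (helper297 #20655 (c)): the faithful section
-/

set_option autoImplicit false
set_option linter.unusedSectionVars false

namespace Cfsg.Agent.Omega.FOne.ThmA

open Subgroup Cfsg Cfsg.Agent.ZN
open Cfsg.Agent.Omega.FOne.Tvw (Base z2 addself ap_inv inv_ap)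
open Cfsg.Agent.Omega.FOne.NOv

universe u

section res

variable {W : Type u} [AddCommGroup W] [Module (ZMod 2) W]

/-- the restriction to an invariant subspace -/
def rs (R : Subgroup (W ≃ₗ[ZMod 2] W)) (V : Submodule (ZMod 2) W) (hV : ∀ r ∈ R, ∀ v ∈ V, r v ∈ V) :
    R →* (V ≃ₗ[ZMod 2] V) where
  toFun r :=
    { toFun := fun v => ⟨(r : W ≃ₗ[ZMod 2] W) (v : W), hV r r.2 v v.2⟩
      map_add' := fun v w => Subtype.ext (map_add (r : W ≃ₗ[ZMod 2] W) (v : W) (w : W))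
      map_smul' := fun c v => Subtype.ext (map_smul (r : W ≃ₗ[ZMod 2] W) c (v : W))
      invFun := fun v => ⟨((r : W ≃ₗ[ZMod 2] W)⁻¹ : W ≃ₗ[ZMod 2] W) (v : W), hV _ (R.inv_mem r.2) v v.2⟩
      left_inv := fun v => Subtype.ext (inv_ap (r : W ≃ₗ[ZMod 2] W) v)
      right_inv := fun v => Subtype.ext (ap_inv (r : W ≃ₗ[ZMod 2] W) v) }
  map_one' := by ext v; rfl
  map_mul' _ _ := by ext v; rfl

theorem rs_coe {R : Subgroup (W ≃ₗ[ZMod 2] W)} {V : Submodule (ZMod 2) W} {hV : ∀ r ∈ R, ∀ v ∈ V, r v ∈ V} (r : R)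
    (v : V) : ((rs R V hV r v : V) : W) = (r : W ≃ₗ[ZMod 2] W) v := rfl

theorem card_top' {W : Type*} [AddCommGroup W] [Module (ZMod 2) W] :
    Nat.card (⊤ : Submodule (ZMod 2) W) = Nat.card W := Nat.card_congr (Equiv.Set.univ W)

end res

/-- the data of the step -/
structure Stp {W : Type u} [AddCommGroup W] [Module (ZMod 2) W] (X R : Subgroup (W ≃ₗ[ZMod 2] W)) (y θ θn : W)
    (T B : Subgroup (W ≃ₗ[ZMod 2] W)) : Prop where
  st : St X y θ T
  hT : T ≤ R
  hR : R ≤ X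
  g : Good X y θ B
  inter : B ⊓ Fq R y (WR R y θ) = ⊥
  cover : WR R y θ ⊔ cms y B = ⊤
  mem : θn ∈ WR R y θ
  fixs : ∀ r ∈ R, r (θ + θn) = θ + θn ∨ r (θ + θn) = θ + θn + y
  kn : ∀ k ∈ Fq R y (WR R y θ), k θn = θn

namespace Stp

variable {W : Type u} [AddCommGroup W] [Module (ZMod 2) W] {X R T B : Subgroup (W ≃ₗ[ZMod 2] W)} {y θ θn : W}
variable (p : Stp X R y θ θn T B)
include p

theorem yR {r : W ≃ₗ[ZMod 2] W} (hr : r ∈ R) : r y = y := p.st.fixy (p.hR hr)

theorem ap_θ {r : W ≃ₗ[ZMod 2] W} (hr : r ∈ R) : r θ = r θn + (θ + θn) ∨ r θ = r θn + (θ + θn) + y := by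
  have h1 := p.fixs r hr
  have h2 : r θ = r θn + r (θ + θn) := by
    rw [map_add]
    have := addself (r θn)
    linear_combination (norm := module) -this
  rcases h1 with h1 | h1
  · left; rw [h2, h1]
  · right; rw [h2, h1]; abel

theorem invV {r : W ≃ₗ[ZMod 2] W} (hr : r ∈ R) {v : W} (hv : v ∈ WR R y θn) : r v ∈ WR R y θn :=
  WR_inv (fun _ hr => p.yR hr) hr hv

/-- `K_R` is trivial on `W_n` -/
theorem kV {k : W ≃ₗ[ZMod 2] W} (hk : k ∈ Fq R y (WR R y θ)) {v : W} (hv : v ∈ WR R y θn) : k v = v := by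
  have h1 : WR R y θn ≤ cw (Fq R y (WR R y θ)) := by
    refine WR_le (fun k hk => hk.2.1) fun r hr k hk => ?_
    have h2 := p.kn _ (p.st.ker_conj p.hR (R.inv_mem hr) hk)
    rw [inv_inv] at h2
    change r⁻¹ (k (r θn)) = θn at h2
    rw [← ap_inv r (k (r θn)), h2]
  exact h1 hv k hk

/-- `C_R(M_n) = K_R` -/
theorem ker_of {x : W ≃ₗ[ZMod 2] W} (hx : x ∈ R) (hf : ∀ v ∈ WR R y θn, x v = v ∨ x v = v + y) :
    x ∈ Fq R y (WR R y θ) := by
  rw [mem_Fq_WR]
  refine ⟨hx, p.yR hx, fun r hr => ?_⟩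
  have h1 := hf _ (ap_mem_WR hr)
  have h2 := p.fixs x hx
  rw [← mk_eq] at h1 h2 ⊢
  have h3 : (Sy y).mkQ (r θ) = (Sy y).mkQ (r θn + (θ + θn)) := by
    rw [mk_eq]
    exact p.ap_θ hr
  have h4 : (Sy y).mkQ (x (r θ)) = (Sy y).mkQ (x (r θn + (θ + θn))) := by
    rw [mk_eq] at h3 ⊢
    rcases h3 with h3 | h3 <;> rw [h3]
    · left; rfl
    · right; rw [map_add, p.yR hx]
  rw [h4, h3, map_add, map_add, map_add (Sy y).mkQ, h1, h2]

variable [Finite W]

theorem BT : B ≤ T := p.g.BO.trans p.st.o2_stb_le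

theorem BR : B ≤ R := p.BT.trans p.hT

theorem coverV : WR R y θn ⊔ cms y B = ⊤ := by
  rw [eq_top_iff, ← p.cover]
  refine sup_le (WR_le (Submodule.mem_sup_left y_mem_WR) fun r hr => ?_) le_sup_right
  have h1 : θ + θn ∈ cms y B := fun b hb => p.fixs b (p.BR hb)
  have h2 : y ∈ WR R y θn := y_mem_WR
  rcases p.ap_θ hr with h3 | h3 <;> rw [h3]
  · exact Submodule.add_mem_sup (ap_mem_WR hr) h1
  · have h4 : r θn + (θ + θn) + y = (r θn + y) + (θ + θn) := by abel
    rw [h4]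
    exact Submodule.add_mem_sup (add_mem (ap_mem_WR hr) h2) h1

/-- counting in `W = W_n + C` -/
theorem cnt {C : Submodule (ZMod 2) W} (hC : cms y B ≤ C) :
    Nat.card (WR R y θn) * Nat.card C = Nat.card W * Nat.card (WR R y θn ⊓ C : Submodule (ZMod 2) W) := by
  have h1 : WR R y θn ⊔ C = ⊤ := by
    rw [eq_top_iff, ← p.coverV]
    exact sup_le_sup_left hC _
  rw [← card_sup_inf, h1, card_top']

/-- `M`-exactness of `D ≤ B` is exactness on `M_n` -/
theorem ex_iff {D : Subgroup (W ≃ₗ[ZMod 2] W)} (hD : D ≤ B) :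
    MEx y D ↔ Nat.card D * Nat.card (WR R y θn ⊓ cms y D : Submodule (ZMod 2) W) = Nat.card (WR R y θn) := by
  have h1 := p.cnt (C := cms y D) (cm_anti hD)
  have p1 : 0 < Nat.card (WR R y θn) := Nat.card_pos
  have p2 : 0 < Nat.card W := Nat.card_pos
  constructor
  · intro h2
    have h2' : Nat.card D * Nat.card (cms y D) = Nat.card W := h2
    refine Nat.eq_of_mul_eq_mul_left p2 ?_
    calc Nat.card W * (Nat.card D * Nat.card (WR R y θn ⊓ cms y D : Submodule (ZMod 2) W))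
        = Nat.card D * (Nat.card W * Nat.card (WR R y θn ⊓ cms y D : Submodule (ZMod 2) W)) := by ring
      _ = (Nat.card D * Nat.card (cms y D)) * Nat.card (WR R y θn) := by rw [← h1]; ring
      _ = _ := by rw [h2']
  · intro h2
    change Nat.card D * Nat.card (cms y D) = Nat.card W
    refine Nat.eq_of_mul_eq_mul_left p1 ?_
    calc Nat.card (WR R y θn) * (Nat.card D * Nat.card (cms y D))
        = Nat.card D * (Nat.card (WR R y θn) * Nat.card (cms y D)) := by ring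
      _ = Nat.card W * (Nat.card D * Nat.card (WR R y θn ⊓ cms y D : Submodule (ZMod 2) W)) := by rw [h1]; ring
      _ = Nat.card (WR R y θn) * Nat.card W := by rw [h2, mul_comm]

/-! ### the section -/

/-- the restriction `R → GL(W_n)` -/
noncomputable def f : R →* (WR R y θn ≃ₗ[ZMod 2] WR R y θn) := rs R (WR R y θn) fun _ hr _ hv => p.invV hr hv

theorem f_coe (r : R) (v : WR R y θn) : ((p.f r v : WR R y θn) : W) = (r : W ≃ₗ[ZMod 2] W) v := rfl

theorem f_eq (r : R) (v w : WR R y θn) : p.f r v = w ↔ (r : W ≃ₗ[ZMod 2] W) v = w := by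
  rw [Subtype.ext_iff, p.f_coe]

/-- the image of `X` -/
noncomputable def X' : Subgroup (WR R y θn ≃ₗ[ZMod 2] WR R y θn) := p.f.range

/-- the image of `D ≤ R` -/
noncomputable def im (D : Subgroup (W ≃ₗ[ZMod 2] W)) : Subgroup (WR R y θn ≃ₗ[ZMod 2] WR R y θn) :=
  (D.subgroupOf R).map p.f

theorem mem_im {D : Subgroup (W ≃ₗ[ZMod 2] W)} {x : WR R y θn ≃ₗ[ZMod 2] WR R y θn} :
    x ∈ p.im D ↔ ∃ r : R, (r : W ≃ₗ[ZMod 2] W) ∈ D ∧ p.f r = x := Iff.rfl

theorem mem_X' {x : WR R y θn ≃ₗ[ZMod 2] WR R y θn} : x ∈ p.X' ↔ ∃ r : R, p.f r = x := Iff.rfl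

theorem im_le (D : Subgroup (W ≃ₗ[ZMod 2] W)) : p.im D ≤ p.X' := by
  rintro _ ⟨r, _, rfl⟩
  exact ⟨r, rfl⟩

theorem f_one {r : R} (hf : ∀ v ∈ WR R y θn, (r : W ≃ₗ[ZMod 2] W) v = v ∨ (r : W ≃ₗ[ZMod 2] W) v = v + y) :
    p.f r = 1 := by
  apply LinearEquiv.ext
  intro v
  rw [p.f_eq]
  exact p.kV (p.ker_of r.2 hf) v.2

/-- `y` -/
def y' (_ : Stp X R y θ θn T B) : WR R y θn := ⟨y, y_mem_WR⟩

/-- `θ_n` -/
def θ' (_ : Stp X R y θ θn T B) : WR R y θn := ⟨θn, θ_mem_WR⟩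

theorem mod_iff (r : R) (v w : WR R y θn) : (p.f r v = w ∨ p.f r v = w + p.y') ↔
    ((r : W ≃ₗ[ZMod 2] W) v = w ∨ (r : W ≃ₗ[ZMod 2] W) v = w + y) := by
  rw [p.f_eq, p.f_eq]
  exact Iff.rfl

theorem faith' {x : WR R y θn ≃ₗ[ZMod 2] WR R y θn} (hx : x ∈ p.X') (hf : ∀ w, x w = w ∨ x w = w + p.y') : x = 1 := by
  obtain ⟨r, rfl⟩ := p.mem_X'.mp hx
  exact p.f_one fun v hv => (p.mod_iff r ⟨v, hv⟩ ⟨v, hv⟩).mp (hf ⟨v, hv⟩)

theorem fixy' {x : WR R y θn ≃ₗ[ZMod 2] WR R y θn} (hx : x ∈ p.X') : x p.y' = p.y' := by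
  obtain ⟨r, rfl⟩ := p.mem_X'.mp hx
  rw [p.f_eq]
  exact p.yR r.2

theorem two' : IsPGroup 2 (p.im T) := (p.st.two.of_equiv (subgroupOfEquivOfLe p.hT).symm).map _

theorem syl' : ¬ 2 ∣ (p.im T).relIndex p.X' := by
  intro h1
  refine p.st.sylR p.hT p.hR (h1.trans ?_)
  have h2 : (p.im T).subgroupOf p.X' = (T.subgroupOf R).map p.f.rangeRestrict := by
    ext x
    rw [mem_subgroupOf]
    constructor
    · rintro ⟨r, hr, e⟩
      exact ⟨r, hr, Subtype.ext e⟩
    · rintro ⟨r, hr, e⟩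
      exact ⟨r, hr, congrArg Subtype.val e⟩
  change ((p.im T).subgroupOf p.X').index ∣ (T.subgroupOf R).index
  rw [h2]
  exact index_map_dvd _ p.f.rangeRestrict_surjective

theorem Tθ' : ∀ t ∈ p.im T, t p.θ' = p.θ' ∨ t p.θ' = p.θ' + p.y' := by
  rintro _ ⟨r, hr, rfl⟩
  rw [p.mod_iff]
  have h1 := p.fixs r r.2
  have h2 := p.st.Tθ r hr
  change (r : W ≃ₗ[ZMod 2] W) θn = θn ∨ (r : W ≃ₗ[ZMod 2] W) θn = θn + y
  rw [← mk_eq] at h1 h2 ⊢
  rw [map_add, map_add, map_add, h2] at h1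
  exact add_left_cancel h1

theorem gen' (U : Submodule (ZMod 2) (WR R y θn)) (h1 : p.y' ∈ U) (h2 : ∀ x ∈ p.X', x p.θ' ∈ U) : U = ⊤ := by
  rw [eq_top_iff]
  rintro ⟨v, hv⟩ _
  have h3 : WR R y θn ≤ U.map (WR R y θn).subtype := by
    refine WR_le ⟨_, h1, rfl⟩ fun r hr => ?_
    exact ⟨_, h2 _ ⟨⟨r, hr⟩, rfl⟩, rfl⟩
  obtain ⟨⟨u, hu'⟩, hu, e⟩ := h3 hv
  have : (⟨v, hv⟩ : WR R y θn) = ⟨u, hu'⟩ := Subtype.ext e.symm
  rw [this]; exact hu

/-- normal 2-subgroups of `X'` are trivial -/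
theorem core' (N : Subgroup (WR R y θn ≃ₗ[ZMod 2] WR R y θn)) (hN : N ≤ p.X')
    (hn : ∀ h ∈ p.X', ∀ n ∈ N, h * n * h⁻¹ ∈ N) (h2 : IsPGroup 2 N) : N = ⊥ := by
  have hfin : Finite (WR R y θn ≃ₗ[ZMod 2] WR R y θn) := DFunLike.finite _
  have h3 : N ≤ o2 p.X' := by
    refine le_o2 hN h2 fun x hx => ?_
    rw [mem_normalizer_iff]
    intro n
    constructor
    · exact fun hn' => hn x hx n hn'
    · intro hn'
      have h1 := hn _ (p.X'.inv_mem hx) _ hn'
      have h2 : x⁻¹ * (x * n * x⁻¹) * x⁻¹⁻¹ = n := by group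
      rwa [h2] at h1
  have h4 : N ≤ p.im T := h3.trans (o2_le_of_sylow (p.im_le T) p.two' p.syl')
  rw [eq_bot_iff]
  intro n hnN
  rw [mem_bot]
  refine p.faith' (hN hnN) fun w => ?_
  have h5 : (⊤ : Submodule (ZMod 2) (WR R y θn)) ≤ fm p.y' n := by
    rw [← p.gen' (fm p.y' n) (y_mem_fm (p.fixy' (hN hnN))) ?_]
    intro x hx
    have h6 := hn _ (p.X'.inv_mem hx) n hnN
    rw [inv_inv] at h6
    have h7 := p.Tθ' _ (h4 h6)
    change n (x p.θ') = x p.θ' ∨ n (x p.θ') = x p.θ' + p.y'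
    have h8 : n (x p.θ') = x ((x⁻¹ * n * x) p.θ') := by
      change n (x p.θ') = x (x⁻¹ (n (x p.θ')))
      rw [ap_inv]
    rw [h8]
    rcases h7 with h7 | h7 <;> rw [h7]
    · left; rfl
    · right; rw [map_add, p.fixy' hx]
  exact h5 trivial

theorem θn_ne : θn ≠ 0 ∧ θn ≠ y := by
  by_contra hcon
  have h1 : θn = 0 ∨ θn = y := by
    by_contra h2
    push Not at h2
    exact hcon h2
  -- then `R` fixes `θ` modulo `y`
  have h2 : (Sy y).mkQ θn = 0 := mk_eq_zero.mpr h1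
  have h3 : ∀ r ∈ R, (Sy y).mkQ (r θ) = (Sy y).mkQ θ := by
    intro r hr
    have h4 := p.fixs r hr
    have h5 : (Sy y).mkQ (r θn) = 0 := by
      rw [mk_eq_zero]
      rcases h1 with h1 | h1 <;> rw [h1]
      · left; exact map_zero r
      · right; exact p.yR hr
    rw [← mk_eq, map_add, map_add, map_add, h2, h5, add_zero, add_zero] at h4
    exact h4
  have h4 : B ≤ Fq R y (WR R y θ) := by
    intro b hb
    rw [mem_Fq_WR]
    refine ⟨p.BR hb, p.yR (p.BR hb), fun r hr => ?_⟩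
    rw [← mk_eq]
    exact (h3 _ (R.mul_mem (p.BR hb) hr)).trans (h3 r hr).symm
  have h5 := p.inter
  rw [inf_eq_left.mpr h4] at h5
  exact p.g.atom.ne h5

/-- **the section is a situation** -/
theorem st' : St p.X' p.y' p.θ' (p.im T) where
  known := ML.Final.kgroup_of_surj p.st.known (R.subgroupOf X)
    (p.f.rangeRestrict.comp (subgroupOfEquivOfLe p.hR).toMonoidHom)
    (p.f.rangeRestrict_surjective.comp (subgroupOfEquivOfLe p.hR).surjective)
  base :=
    { y0 := fun h => p.st.base.y0 (congrArg Subtype.val h)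
      fix := fun _ hx => p.fixy' hx
      faith := fun _ hx hf => p.faith' hx hf
      core := fun N hN hn h2 => p.core' N hN hn h2 }
  TX := p.im_le T
  two := p.two'
  syl := p.syl'
  fixT := by
    rintro ⟨w, hw⟩ hf
    have h1 := p.st.fixT w fun t ht => by
      have h2 := hf (p.f ⟨t, p.hT ht⟩) ⟨⟨t, p.hT ht⟩, ht, rfl⟩
      exact congrArg Subtype.val h2
    rcases h1 with h1 | h1
    · left; exact Subtype.ext h1
    · right; exact Subtype.ext h1
  θ0 := fun h => p.θn_ne.1 (congrArg Subtype.val h)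
  θy := fun h => p.θn_ne.2 (congrArg Subtype.val h)
  Tθ := p.Tθ'
  gen := p.gen'

/-! ### the atom -/

theorem f_inj {r s : R} (hr : (r : W ≃ₗ[ZMod 2] W) ∈ B) (hs : (s : W ≃ₗ[ZMod 2] W) ∈ B) (e : p.f r = p.f s) : r = s := by
  have h1 : ((r : W ≃ₗ[ZMod 2] W)⁻¹ * s : W ≃ₗ[ZMod 2] W) ∈ B ⊓ Fq R y (WR R y θ) := by
    refine ⟨B.mul_mem (B.inv_mem hr) hs, ?_⟩
    have h2 : p.f (r⁻¹ * s) = 1 := by rw [map_mul, map_inv, e, inv_mul_cancel]
    refine p.ker_of (R.mul_mem (R.inv_mem r.2) s.2) fun v hv => Or.inl ?_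
    have h3 : p.f (r⁻¹ * s) ⟨v, hv⟩ = ⟨v, hv⟩ := by rw [h2]; rfl
    exact congrArg Subtype.val h3
  rw [p.inter, mem_bot] at h1
  apply Subtype.ext
  exact (inv_mul_eq_one.mp h1)

theorem card_im {D : Subgroup (W ≃ₗ[ZMod 2] W)} (hD : D ≤ B) : Nat.card (p.im D) = Nat.card D := by
  symm
  refine Nat.card_congr (Equiv.ofBijective
    (fun d : D => (⟨p.f ⟨d, p.BR (hD d.2)⟩, ⟨⟨d, p.BR (hD d.2)⟩, d.2, rfl⟩⟩ : p.im D)) ⟨?_, ?_⟩)
  · rintro ⟨a, ha⟩ ⟨b, hb⟩ e
    have h1 := p.f_inj (r := ⟨a, p.BR (hD ha)⟩) (s := ⟨b, p.BR (hD hb)⟩) (hD ha) (hD hb) (congrArg Subtype.val e)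
    exact Subtype.ext (congrArg (fun r : R => (r : W ≃ₗ[ZMod 2] W)) h1)
  · rintro ⟨_, r, hr, rfl⟩
    exact ⟨⟨r, hr⟩, rfl⟩

theorem card_cms {D : Subgroup (W ≃ₗ[ZMod 2] W)} (hD : D ≤ B) :
    Nat.card (cms p.y' (p.im D)) = Nat.card (WR R y θn ⊓ cms y D : Submodule (ZMod 2) W) := by
  refine Nat.card_congr
    { toFun := fun v => ⟨v.1.1, v.1.2, fun d hd => ?_⟩
      invFun := fun v => ⟨⟨v.1, v.2.1⟩, ?_⟩
      left_inv := fun v => rfl
      right_inv := fun v => rfl }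
  · have h1 := v.2 (p.f ⟨d, p.BR (hD hd)⟩) ⟨⟨d, p.BR (hD hd)⟩, hd, rfl⟩
    exact (p.mod_iff _ _ _).mp h1
  · rintro _ ⟨r, hr, rfl⟩
    exact (p.mod_iff _ _ _).mpr (v.2.2 _ hr)

theorem mex_iff {D : Subgroup (W ≃ₗ[ZMod 2] W)} (hD : D ≤ B) : MEx p.y' (p.im D) ↔ MEx y D := by
  rw [p.ex_iff hD, ← p.card_cms hD]
  change Nat.card (p.im D) * Nat.card (cms p.y' (p.im D)) = _ ↔ _
  rw [p.card_im hD]

/-- **the image of `B` is a good atom** -/
theorem good' : Good p.X' p.y' p.θ' (p.im B) where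
  BO := by
    have hfin : Finite (WR R y θn ≃ₗ[ZMod 2] WR R y θn) := DFunLike.finite _
    set O := o2 (Fq X y {θ}) with hO
    have h1 : p.im B ≤ p.im (O ⊓ R) := by
      rintro _ ⟨r, hr, rfl⟩
      exact ⟨r, ⟨p.g.BO hr, r.2⟩, rfl⟩
    refine h1.trans (le_o2 ?_ ?_ ?_)
    · rintro _ ⟨r, hr, rfl⟩
      refine ⟨⟨r, rfl⟩, p.fixy' ⟨r, rfl⟩, ?_⟩
      rintro v rfl
      have h2 : (r : W ≃ₗ[ZMod 2] W) ∈ T := p.st.o2_stb_le hr.1
      exact p.Tθ' _ ⟨r, h2, rfl⟩
    · refine IsPGroup.map (IsPGroup.of_equiv ?_ (subgroupOfEquivOfLe inf_le_right).symm) _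
      exact (isPGroup_o2 _).to_le inf_le_left
    · intro x hx
      have hgen : ∀ x : WR R y θn ≃ₗ[ZMod 2] WR R y θn, x ∈ Fq p.X' p.y' {p.θ'} → ∀ n ∈ p.im (O ⊓ R),
          x * n * x⁻¹ ∈ p.im (O ⊓ R) := by
        rintro _ ⟨⟨r, rfl⟩, -, hr⟩ _ ⟨s, hs, rfl⟩
        refine ⟨r * s * r⁻¹, ⟨?_, (r * s * r⁻¹).2⟩, by rw [map_mul, map_mul, map_inv]⟩
        have h3 := (p.mod_iff r p.θ' p.θ').mp (hr _ rfl)
        change (r : W ≃ₗ[ZMod 2] W) θn = θn ∨ (r : W ≃ₗ[ZMod 2] W) θn = θn + y at h3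
        have h4 := p.fixs r r.2
        have h5 : (r : W ≃ₗ[ZMod 2] W) ∈ Fq X y {θ} := by
          refine ⟨p.hR r.2, p.yR r.2, ?_⟩
          rintro v rfl
          rw [← mk_eq] at h3 h4 ⊢
          rw [map_add, map_add, map_add, h3] at h4
          exact add_right_cancel h4
        exact (mem_normalizer_iff.mp (le_normalizer_o2 _ h5) _).mp hs.1
      rw [mem_normalizer_iff]
      intro n
      constructor
      · exact fun hn => hgen x hx n hn
      · intro hn
        have h1 := hgen _ ((Fq p.X' p.y' {p.θ'}).inv_mem hx) _ hn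
        have h2 : x⁻¹ * (x * n * x⁻¹) * x⁻¹⁻¹ = n := by group
        rwa [h2] at h1
  sq := by
    rintro _ ⟨r, hr, rfl⟩
    rw [← map_mul]
    have : r * r = 1 := Subtype.ext (p.g.sq r hr)
    rw [this, map_one]
  quadM := by
    rintro _ ⟨r, hr, rfl⟩ _ ⟨s, hs, rfl⟩ w
    rw [p.mod_iff]
    exact p.g.quadM r hr s hs w
  atom :=
    { ne := by
        intro h1
        have h2 := p.card_im (D := B) le_rfl
        rw [h1, Subgroup.card_bot] at h2
        have := p.g.four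
        omega
      ex := (p.mex_iff le_rfl).mpr p.g.atom.ex
      min := by
        intro C hC hne hex
        let D : Subgroup (W ≃ₗ[ZMod 2] W) := (C.comap p.f).map R.subtype ⊓ B
        have hD : D ≤ B := inf_le_right
        have h1 : p.im D = C := by
          ext x
          constructor
          · rintro ⟨r, ⟨⟨s, hs, e⟩, -⟩, rfl⟩
            have : r = s := Subtype.ext e.symm
            rw [this]; exact hs
          · intro hx
            obtain ⟨r, hr, rfl⟩ := hC hx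
            exact ⟨r, ⟨⟨r, hx, rfl⟩, hr⟩, rfl⟩
        have h2 : D ≠ ⊥ := by
          intro h3
          apply hne
          rw [← h1, h3]
          rw [eq_bot_iff]
          rintro _ ⟨r, hr, rfl⟩
          rw [mem_bot]
          have : r = 1 := Subtype.ext (mem_bot.mp hr)
          rw [this, map_one]
        rw [← h1] at hex
        have h3 := p.g.atom.min D hD h2 ((p.mex_iff hD).mp hex)
        rw [← h1, h3] }
  four := by
    rw [p.card_im le_rfl]
    exact p.g.four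

theorem card_X' : Nat.card p.X' ≤ Nat.card R := by
  have hfin : Finite (W ≃ₗ[ZMod 2] W) := DFunLike.finite _
  exact Nat.card_le_card_of_surjective p.f.rangeRestrict p.f.rangeRestrict_surjective

end Stp

end Cfsg.Agent.Omega.FOne.ThmA

end

section


/-!
# (F1'), the REDUCTION (helper297 #20655): a minimal situation, in which all atoms are low
-/

set_option autoImplicit false
set_option linter.unusedSectionVars false

namespace Cfsg.Agent.Omega.FOne.ThmA

open Subgroup Cfsg Cfsg.Agent.ZN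
open Cfsg.Agent.Omega.FOne.Tvw (Base z2 addself ap_inv inv_ap)
open Cfsg.Agent.Omega.FOne.NOv

universe u

section

variable {W : Type u} [AddCommGroup W] [Module (ZMod 2) W] [Finite W] {X R T B : Subgroup (W ≃ₗ[ZMod 2] W)} {y θ : W}

/-- one step of the reduction -/
theorem St.step (hML : ML.Final.MLK.{u, u}) (hA : ThA.{u}) (h : St X y θ T) (hT : T ≤ R) (hR : R ≤ X) (hRX : R ≠ X)
    (g : Good X y θ B) (hn : ¬ B ≤ Fq R y (WR R y θ)) :
    ∃ (W' : Type u) (_ : AddCommGroup W') (_ : Module (ZMod 2) W') (_ : Finite W') (X' : Subgroup (W' ≃ₗ[ZMod 2] W'))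
      (y' θ' : W') (T' B' : Subgroup (W' ≃ₗ[ZMod 2] W')), St X' y' θ' T' ∧ Good X' y' θ' B' ∧
        Nat.card X' < Nat.card X := by
  have hfin : Finite (W ≃ₗ[ZMod 2] W) := DFunLike.finite _
  -- a minimal overgroup
  let S : Set (Subgroup (W ≃ₗ[ZMod 2] W)) :=
    {R' | T ≤ R' ∧ R' ≤ R ∧ ∃ B, Good X y θ B ∧ ¬ B ≤ Fq R' y (WR R' y θ)}
  obtain ⟨R₁, hR₁⟩ := (Set.toFinite S).exists_minimal ⟨R, hT, le_rfl, B, g, hn⟩
  obtain ⟨⟨hT1, hR1, B₁, g₁, hn₁⟩, hmin⟩ := hR₁
  have hR1X : R₁ ≤ X := hR1.trans hR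
  obtain ⟨u1, u2, u3⟩ := h.u_eq hML hT1 hR1X g₁ hn₁
  have ha := h.step_a hT1 hR1X g₁ hn₁ fun R' h1 h2 h3 => by
    by_contra h4
    exact h3 (le_antisymm h2 (hmin ⟨h1, h2.trans hR1, B₁, g₁, h4⟩ h2))
  have hBR : B₁ ≤ R₁ := (g₁.BO.trans h.o2_stb_le).trans hT1
  obtain ⟨θn, b1, b2, b3⟩ := h.step_b hT1 hR1X hBR ha
  have hA1 := hA W X R₁ y θ T B₁ h hT1 hR1X g₁ u1 u2 u3
  have hk : θn ∈ cw (Fq R₁ y (WR R₁ y θ)) :=
    b3 _ (fun k hk => hk.2.1) fun l hl v hv k hk => hA1 k hk l hl v hv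
  have p : Stp X R₁ y θ θn T B₁ := ⟨h, hT1, hR1X, g₁, u1, u2, b1, b2, hk⟩
  refine ⟨WR R₁ y θn, inferInstance, inferInstance, inferInstance, p.X', p.y', p.θ', p.im T, p.im B₁, p.st', p.good', ?_⟩
  refine lt_of_le_of_lt p.card_X' ?_
  have h1 : R₁ < X := lt_of_le_of_lt hR1 (lt_of_le_of_ne hR hRX)
  exact Set.ncard_lt_ncard (SetLike.coe_ssubset_coe.mpr h1) (Set.toFinite _)

/-- **the minimal situation** -/
theorem exists_min (hML : ML.Final.MLK.{u, u}) (hA : ThA.{u}) (n : ℕ) :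
    ∀ (W : Type u) [AddCommGroup W] [Module (ZMod 2) W] [Finite W] (X : Subgroup (W ≃ₗ[ZMod 2] W)) (y θ : W)
      (T B : Subgroup (W ≃ₗ[ZMod 2] W)), Nat.card X = n → St X y θ T → Good X y θ B →
      ∃ (W' : Type u) (_ : AddCommGroup W') (_ : Module (ZMod 2) W') (_ : Finite W')
        (X' : Subgroup (W' ≃ₗ[ZMod 2] W')) (y' θ' : W') (T' B' : Subgroup (W' ≃ₗ[ZMod 2] W')),
        St X' y' θ' T' ∧ Good X' y' θ' B' ∧ LA X' y' θ' T' := by
  induction n using Nat.strong_induction_on with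
  | _ n ih =>
    intro W _ _ _ X y θ T B hn st g
    by_cases hLA : LA X y θ T
    · exact ⟨W, inferInstance, inferInstance, inferInstance, X, y, θ, T, B, st, g, hLA⟩
    · simp only [LA, not_forall] at hLA
      obtain ⟨B₁, g₁, R, hT, hR, hRX, hlow⟩ := hLA
      have h1 : ¬ B₁ ≤ Fq R y (WR R y θ) := fun h2 => hlow ⟨st.low_of hT hR g₁ h2, h2⟩
      obtain ⟨W', i1, i2, i3, X', y', θ', T', B', st', g', hlt⟩ := st.step hML hA hT hR hRX g₁ h1
      exact ih _ (hn ▸ hlt) W' X' y' θ' T' B' rfl st' g'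

/-- the minimal situation is a faithful section in the sense of helper854 -/
theorem fs_of (st : St X y θ T) (g : Good X y θ B) (la : LA X y θ T) : Glue.Fs X y θ T B where
  known := st.known
  base := st.base
  TX := st.TX
  two := st.two
  syl := st.syl
  fixT := st.fixT
  θ0 := st.θ0
  θy := st.θy
  Tθ := st.Tθ
  swap := by
    by_contra hcon
    push Not at hcon
    rcases st.fixT θ fun t ht => (st.Tθ t ht).resolve_right (hcon t ht) with h1 | h1
    · exact st.θ0 h1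
    · exact st.θy h1
  gen := st.gen
  BT := g.BO.trans st.o2_stb_le
  sq := g.sq
  quadM := g.quadM
  atom := g.atom
  four := g.four
  low := fun R hT hR hRX => (la B g R hT hR hRX).1

end

section start

variable {W : Type u} [AddCommGroup W] [Module (ZMod 2) W] [Finite W] {H T N A B : Subgroup (W ≃ₗ[ZMod 2] W)} {y : W}
  {L : Submodule (ZMod 2) W}

/-- the situation of `AtomTwo` -/
theorem start (s : Sw H y T N L) (a : Ax y N A) (hBA : B ≤ A) (hB : MAtom y B) (h2 : Nat.card B ≠ 2) :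
    ∃ θ, St H y θ T ∧ Good H y θ B := by
  classical
  have hfin : Finite (W ≃ₗ[ZMod 2] W) := DFunLike.finite _
  obtain ⟨θ, hθ, θ0, θy⟩ : ∃ l ∈ L, l ≠ 0 ∧ l ≠ y := by
    by_contra hcon
    push Not at hcon
    have h1 : (L : Set W) ⊆ (({0, y} : Finset W) : Set W) := by
      intro v hv
      by_cases h0 : v = 0
      · simp [h0]
      · simp [hcon v hv h0]
    have h2 := Set.ncard_le_ncard h1 (Finset.finite_toSet _)
    rw [Set.ncard_coe_finset] at h2
    have h3 : (L : Set W).ncard = 4 := s.card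
    have h4 := Finset.card_le_two (a := (0 : W)) (b := y)
    omega
  have hL := fun {u : W} (hu : u ∈ L) => mem_L s.card s.yL s.base.y0 hθ θ0 θy hu
  have hfix : ∀ x ∈ H, x y = y := s.base.fix
  have hst : ∀ x ∈ H, x θ ∈ L → x θ = θ ∨ x θ = θ + y := by
    intro x hx hxL
    rcases hL hxL with h1 | h1 | h1 | h1
    · exact absurd (x.injective (h1.trans (map_zero x).symm)) θ0
    · exact absurd (x.injective (h1.trans (hfix x hx).symm)) θy
    · exact Or.inl h1
    · exact Or.inr h1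
  refine ⟨θ, ⟨s.known, s.base, s.TH, s.two, s.syl, s.fixT, θ0, θy, fun t ht => hst t (s.TH ht) (s.TL t ht θ hθ),
    fun U hy hU => s.gen U fun h hh v hv => ?_⟩, ⟨?_, fun b hb => a.sq b (hBA hb), fun c hc d hd w =>
      Or.inl (a.quad c (hBA hc) d (hBA hd) w), hB, ?_⟩⟩
  · rcases hL hv with rfl | rfl | rfl | rfl
    · rw [map_zero]; exact zero_mem _
    · rw [hfix h hh]; exact hy
    · exact hU h hh
    · rw [map_add, hfix h hh]; exact add_mem (hU h hh) hy
  · refine (hBA.trans a.AN).trans (le_o2 ?_ s.N2 ?_)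
    · intro n hn
      refine ⟨s.NH hn, hfix n (s.NH hn), ?_⟩
      rintro v rfl
      left; exact s.NL n hn v hθ
    · have key : ∀ x ∈ Fq H y {θ}, ∀ n ∈ N, x * n * x⁻¹ ∈ N := by
        rintro x ⟨hx, hxy, hxθ⟩ n hn
        refine s.Nn x hx (fun v hv => ?_) n hn
        have h3 : x θ ∈ L := by
          rcases hxθ θ rfl with h1 | h1 <;> rw [h1]
          · exact hθ
          · exact add_mem hθ s.yL
        rcases hL hv with rfl | rfl | rfl | rfl
        · rw [map_zero]; exact zero_mem _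
        · rw [hxy]; exact hv
        · exact h3
        · rw [map_add, hxy]; exact add_mem h3 s.yL
      intro x hx
      rw [mem_normalizer_iff]
      intro n
      constructor
      · exact fun hn => key x hx n hn
      · intro hn
        have h1 := key _ (inv_mem hx) _ hn
        have h2 : x⁻¹ * (x * n * x⁻¹) * x⁻¹⁻¹ = n := by group
        rwa [h2] at h1
  · have hB2 : IsPGroup 2 B := s.N2.to_le (hBA.trans a.AN)
    obtain ⟨k, hk⟩ := (IsPGroup.iff_card.mp hB2)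
    have hk0 : k ≠ 0 := by
      rintro rfl
      exact hB.ne (Subgroup.card_eq_one.mp (by rw [hk, pow_zero]))
    have hk1 : k ≠ 1 := by
      rintro rfl
      exact h2 (by rw [hk, pow_one])
    rw [hk]
    calc 4 = 2 ^ 2 := by norm_num
      _ ≤ 2 ^ k := Nat.pow_le_pow_right (by norm_num) (by omega)

/-- **THE REDUCTION**: an atom of order at least 4 gives a faithful section in which all atoms are low -/
theorem reduction (hML : ML.Final.MLK.{u, u}) (hA : ThA.{u}) (s : Sw H y T N L) (a : Ax y N A) (hBA : B ≤ A)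
    (hB : MAtom y B) (h2 : Nat.card B ≠ 2) :
    ∃ (W' : Type u) (_ : AddCommGroup W') (_ : Module (ZMod 2) W') (_ : Finite W')
      (X' : Subgroup (W' ≃ₗ[ZMod 2] W')) (y' θ' : W') (T' B' : Subgroup (W' ≃ₗ[ZMod 2] W')),
      Glue.Fs X' y' θ' T' B' ∧ Good X' y' θ' B' ∧ LA X' y' θ' T' := by
  obtain ⟨θ, st, g⟩ := start s a hBA hB h2
  obtain ⟨W', i1, i2, i3, X', y', θ', T', B', st', g', la⟩ := exists_min hML hA _ W H y θ T B rfl st g
  exact ⟨W', i1, i2, i3, X', y', θ', T', B', fs_of st' g' la, g', la⟩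

end start

end Cfsg.Agent.Omega.FOne.ThmA

end
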